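import Groth.Prelude.Def_K0Var
import Groth.Agent.H17.Birat
import Groth.Agent.H17.Reduced
import Groth.Agent.H17.QcImage
import Groth.Agent.H17.GenericStalk
import Groth.Agent.H26TF1.Quot
import Mathlib

/-! # Classes of schemes that agree on field valued points -/

set_option autoImplicit false
set_option linter.style.haveILetI false
set_option backward.isDefEq.respectTransparency false
set_option backward.isDefEq.respectTransparency.types false

universe u

open CategoryTheory CategoryTheory.Limits AlgebraicGeometry TopologicalSpace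

namespace Groth.Agent.H27K0Var

variable {S : Scheme.{u}}

/-- Every field valued point of `B` comes from exactly one of the `A i`. -/
def PtBij {B : Scheme.{u}} {ι : Type*} {A : ι → Scheme.{u}} (g : ∀ i, A i ⟶ B) : Prop :=
  ∀ (K : Type u) [Field K] (y : Spec (CommRingCat.of K) ⟶ B),
    ∃! p : Σ i, Spec (CommRingCat.of K) ⟶ A i, p.2 ≫ g p.1 = y

theorem cl_of_surjective {X Z : Scheme.{u}} (f : X ⟶ S) [LocallyOfFiniteType f] [QuasiCompact f]
    (i : Z ⟶ X) [IsClosedImmersion i] (hi : Function.Surjective i) : K0Var.cl (i ≫ f) = K0Var.cl f := by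
  haveI : QuasiCompact (Scheme.emptyTo X) := ⟨fun U _ _ => by
    rw [Subsingleton.elim (Scheme.emptyTo X ⁻¹' U) ∅]; exact isCompact_empty⟩
  rw [K0Var.cl_scissor f i (Scheme.emptyTo X) (by
    rw [Set.range_eq_univ.2 hi, Set.range_eq_empty (Scheme.emptyTo X), Set.compl_empty]), left_eq_add]
  haveI : IsEmpty (K0Var.Gen.mk (∅ : Scheme.{u}) (Scheme.emptyTo X ≫ f)).X :=
    inferInstanceAs (IsEmpty (∅ : Scheme.{u}))
  exact K0Var.Gen.cl_eq_zero_of_isEmpty _

variable {B : Scheme.{u}} {ι : Type*} {A : ι → Scheme.{u}} {g : ∀ i, A i ⟶ B}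

theorem PtBij.baseChange (h : PtBij g) {B' : Scheme.{u}} (b : B' ⟶ B) :
    PtBij fun i => pullback.snd (g i) b := by
  intro K _ y
  obtain ⟨⟨i, a⟩, ha, huniq⟩ := h K (y ≫ b)
  refine ⟨⟨i, pullback.lift a y ha⟩, pullback.lift_snd _ _ _, ?_⟩
  rintro ⟨j, c⟩ hc
  have := huniq ⟨j, c ≫ pullback.fst (g j) b⟩ (by
    show (c ≫ pullback.fst (g j) b) ≫ g j = y ≫ b
    rw [Category.assoc, pullback.condition, ← Category.assoc]; exact congrArg (· ≫ b) hc)
  obtain rfl : j = i := congrArg Sigma.fst this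
  rw [Sigma.mk.injEq, heq_eq_eq] at this ⊢
  refine ⟨rfl, pullback.hom_ext (this.2.trans (pullback.lift_fst _ _ _).symm) ?_⟩
  exact hc.trans (pullback.lift_snd _ _ _).symm

/-- Precomposing with surjective closed immersions changes nothing. -/
theorem PtBij.reduced (h : PtBij g) {A' : ι → Scheme.{u}} (r : ∀ i, A' i ⟶ A i) [∀ i, IsClosedImmersion (r i)]
    (hr : ∀ i, Function.Surjective (r i)) : PtBij fun i => r i ≫ g i := by
  intro K _ y
  obtain ⟨⟨i, a⟩, ha, huniq⟩ := h K y
  obtain ⟨a', ha'⟩ := H17.exists_lift_immersion_of_range_subset a (r i) (by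
    rw [Set.range_eq_univ.2 (hr i)]; exact Set.subset_univ _)
  refine ⟨⟨i, a'⟩, (by show a' ≫ r i ≫ g i = y; rw [reassoc_of% ha']; exact ha), ?_⟩
  rintro ⟨j, c⟩ hc
  have := huniq ⟨j, c ≫ r j⟩ (by show (c ≫ r j) ≫ g j = y; rw [Category.assoc]; exact hc)
  obtain rfl : j = i := congrArg Sigma.fst this
  rw [Sigma.mk.injEq, heq_eq_eq] at this ⊢
  exact ⟨rfl, (cancel_mono (r j)).1 (this.2.trans ha'.symm)⟩

theorem PtBij.eq_of_eq (h : PtBij g) {i j : ι} (a : A i) (a' : A j) (e : g i a = g j a') :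
    (⟨i, a⟩ : Σ i, A i) = ⟨j, a'⟩ := by
  obtain ⟨z, hz, hz'⟩ := Scheme.Pullback.exists_preimage_pullback a a' e
  let P := pullback (g i) (g j)
  obtain ⟨p, -, huniq⟩ := h (P.residueField z) (P.fromSpecResidueField z ≫ pullback.fst (g i) (g j) ≫ g i)
  have h1 := huniq ⟨i, P.fromSpecResidueField z ≫ pullback.fst (g i) (g j)⟩ (Category.assoc _ _ _)
  have h2 := huniq ⟨j, P.fromSpecResidueField z ≫ pullback.snd (g i) (g j)⟩ (by
    show (P.fromSpecResidueField z ≫ pullback.snd (g i) (g j)) ≫ g j = _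
    rw [Category.assoc, pullback.condition])
  have h12 := congrArg (fun q : Σ i, Spec (CommRingCat.of (P.residueField z)) ⟶ A i =>
    (⟨q.1, q.2 (IsLocalRing.closedPoint (P.residueField z))⟩ : Σ i, A i)) (h1.trans h2.symm)
  simp only [Scheme.Hom.comp_apply] at h12
  erw [Scheme.fromSpecResidueField_apply, hz, hz'] at h12
  exact h12

theorem PtBij.exists_eq (h : PtBij g) (b : B) : ∃ i a, g i a = b := by
  obtain ⟨⟨i, a⟩, ha, -⟩ := h (B.residueField b) (B.fromSpecResidueField b)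
  refine ⟨i, a (IsLocalRing.closedPoint (B.residueField b)), ?_⟩
  have := congrArg (fun φ : Spec (CommRingCat.of (B.residueField b)) ⟶ B =>
    φ (IsLocalRing.closedPoint (B.residueField b))) ha
  simp only [Scheme.Hom.comp_apply] at this
  exact this.trans (B.fromSpecResidueField_apply b _)

theorem PtBij.isIso_residueFieldMap (h : PtBij g) (i : ι) (a : A i) : IsIso ((g i).residueFieldMap a) := by
  obtain ⟨⟨j, l⟩, hl, -⟩ := h (B.residueField (g i a)) (B.fromSpecResidueField (g i a))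
  have hl' : l ≫ g j = B.fromSpecResidueField (g i a) := hl
  obtain ⟨p, -, huniq⟩ := h ((A i).residueField a) ((A i).fromSpecResidueField a ≫ g i)
  have h1 := huniq ⟨i, (A i).fromSpecResidueField a⟩ rfl
  have h2 := huniq ⟨j, Spec.map ((g i).residueFieldMap a) ≫ l⟩ (by
    show (Spec.map ((g i).residueFieldMap a) ≫ l) ≫ g j = _
    rw [Category.assoc, hl', Scheme.Hom.SpecMap_residueFieldMap_fromSpecResidueField])
  have h12 := h1.trans h2.symm
  obtain rfl : i = j := congrArg Sigma.fst h12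
  rw [Sigma.mk.injEq, heq_eq_eq] at h12
  obtain ⟨⟨x, φ⟩, hφ⟩ := (Scheme.SpecToEquivOfField (B.residueField (g i a)) (A i)).symm.surjective l
  rw [Scheme.SpecToEquivOfField_symm_apply] at hφ
  have key : (Scheme.SpecToEquivOfField ((A i).residueField a) (A i)).symm ⟨a, 𝟙 _⟩ =
      (Scheme.SpecToEquivOfField ((A i).residueField a) (A i)).symm ⟨x, φ ≫ (g i).residueFieldMap a⟩ := by
    simp only [Scheme.SpecToEquivOfField_symm_apply, Spec.map_id, Category.id_comp, Spec.map_comp, Category.assoc]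
    rw [hφ]
    exact h12.2
  have key' := (Scheme.SpecToEquivOfField ((A i).residueField a) (A i)).symm.injective key
  obtain ⟨hax, hh⟩ := Sigma.mk.injEq .. |>.mp key'
  subst hax
  have hfac : φ ≫ (g i).residueFieldMap a = 𝟙 _ := (eq_of_heq hh).symm
  refine (ConcreteCategory.isIso_iff_bijective _).2 ⟨RingHom.injective _, fun t => ⟨φ t, ?_⟩⟩
  exact congr($hfac t)

theorem isIso_stalkMap_of_residueFieldMap {X Y : Scheme.{u}} (f : X ⟶ Y) (x : X)
    (hX : IsField (X.presheaf.stalk x)) (hY : IsField (Y.presheaf.stalk (f x))) [IsIso (f.residueFieldMap x)] :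
    IsIso (f.stalkMap x) := by
  have h := (Scheme.residue_residueFieldMap f x).symm
  haveI : IsIso (Y.residue (f x)) := (ConcreteCategory.isIso_iff_bijective _).2
    ⟨by letI := hY.toField; exact RingHom.injective _, Ideal.Quotient.mk_surjective⟩
  haveI : IsIso (X.residue x) := (ConcreteCategory.isIso_iff_bijective _).2
    ⟨by letI := hX.toField; exact RingHom.injective _, Ideal.Quotient.mk_surjective⟩
  haveI : IsIso (f.stalkMap x ≫ X.residue x) := by rw [h]; infer_instance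
  exact IsIso.of_isIso_comp_right (f.stalkMap x) (X.residue x)

/-- The inductive step: a dense open piece on which the family is one isomorphism. -/
theorem exists_open_iso [IsReduced B] [IsNoetherian B] [Finite ι] [∀ i, IsReduced (A i)]
    [∀ i, LocallyOfFiniteType (g i)] [∀ i, QuasiCompact (g i)] (h : PtBij g) [Nonempty B] :
    ∃ (i : ι) (V : B.Opens), Nonempty V ∧ IsIso (g i ∣_ V) ∧ ∀ j, j ≠ i → g j ⁻¹ᵁ V = ⊥ := by
  classical
  obtain ⟨b₀⟩ := (inferInstance : Nonempty B)
  obtain ⟨η, hη, -⟩ := H17.exists_genericPoint_specializes b₀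
  obtain ⟨i, a, ha⟩ := h.exists_eq η
  have huniq : ∀ j (a' : A j), g j a' = η → (⟨j, a'⟩ : Σ i, A i) = ⟨i, a⟩ :=
    fun j a' e => h.eq_of_eq a' a (e.trans ha.symm)
  have hagen : a ∈ genericPoints (A i) := H17.mem_genericPoints_iff.2 fun a' ha' => by
    have := H17.mem_genericPoints_iff.1 hη (g i a') (ha ▸ ha'.map (g i).continuous)
    have h' := huniq i a' this
    rw [Sigma.mk.injEq] at h'
    exact eq_of_heq h'.2
  haveI := h.isIso_residueFieldMap i a
  haveI : IsIso ((g i).stalkMap a) :=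
    isIso_stalkMap_of_residueFieldMap (g i) a (H17.isField_stalk_generic _ hagen inferInstance)
      (H17.isField_stalk_generic _ (ha ▸ hη) inferInstance)
  obtain ⟨V, hV, hηV, -⟩ := exists_isAffineOpen_mem_and_subset (x := η) (U := (⊤ : B.Opens)) trivial
  obtain ⟨U, hU, haU, hUV⟩ :=
    exists_isAffineOpen_mem_and_subset (x := a) (U := g i ⁻¹ᵁ V) (show g i a ∈ V by rw [ha]; exact hηV)
  -- the other generic points
  let W : B.Opens := ⟨(⋃ γ ∈ genericPoints B \ {η}, closure {γ})ᶜ, by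
    rw [isOpen_compl_iff]
    exact Set.Finite.isClosed_biUnion ((H26TF1.finite_genericPoints (X := B)).subset Set.diff_subset)
      fun _ _ => isClosed_closure⟩
  have hηW : η ∈ W := fun hη' => by
    obtain ⟨γ, hγ, hγη⟩ := Set.mem_iUnion₂.1 hη'
    exact hγ.2 (H17.mem_genericPoints_iff.1 hη γ (specializes_iff_mem_closure.2 hγη))
  obtain ⟨V₁, hV₁, hηV₁, hV₁le⟩ := exists_isAffineOpen_mem_and_subset (show η ∈ V ⊓ W from ⟨hηV, hηW⟩)
  obtain ⟨U₁, hU₁, haU₁, hU₁V₁⟩ :=
    exists_isAffineOpen_mem_and_subset (x := a) (U := U ⊓ g i ⁻¹ᵁ V₁) ⟨haU, show g i a ∈ V₁ by rw [ha]; exact hηV₁⟩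
  obtain ⟨V', hV', hV'le, hηV', -, hiso⟩ := H17.Birat.exists_isIso_resLE (g i) hU₁ hV₁ (hU₁V₁.trans inf_le_right) haU₁
    (ha.symm ▸ hη) (fun z _ hz => by
      have h' := huniq i z (hz.trans ha)
      rw [Sigma.mk.injEq] at h'
      exact eq_of_heq h'.2)
    (Or.inl ⟨inferInstance, fun γ hγ hγV => by
      rw [ha]
      by_contra hne
      exact (hV₁le hγV).2 (Set.mem_biUnion ⟨hγ, hne⟩ (subset_closure rfl))⟩)
  -- push away everything else
  let Z : (A i).IdealSheafData := Scheme.IdealSheafData.vanishingIdeal ⟨(U₁ : Set (A i))ᶜ, U₁.2.isClosed_compl⟩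
  have hZ : η ∉ closure (Set.range (Z.subschemeι ≫ g i)) := fun hcl => by
    obtain ⟨z, hz⟩ := H17.exists_specializes_of_mem_closure_range _ hcl
    have e := H17.mem_genericPoints_iff.1 hη _ hz
    have h' := huniq i (Z.subschemeι z) (by simpa only [Scheme.Hom.comp_apply] using e)
    rw [Sigma.mk.injEq] at h'
    have hmem : Z.subschemeι z ∈ Set.range Z.subschemeι := Set.mem_range_self z
    rw [eq_of_heq h'.2, Scheme.IdealSheafData.range_subschemeι, Scheme.IdealSheafData.coe_support_vanishingIdeal]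
      at hmem
    exact hmem haU₁
  have hoth : η ∉ ⋃ j : {j // j ≠ i}, closure (Set.range (g j.1)) := fun hcl => by
    obtain ⟨j, hj⟩ := Set.mem_iUnion.1 hcl
    obtain ⟨z, hz⟩ := H17.exists_specializes_of_mem_closure_range _ hj
    exact j.2 (congrArg Sigma.fst (huniq j.1 z (H17.mem_genericPoints_iff.1 hη _ hz)))
  let V'' : B.Opens := V' ⊓ ⟨(closure (Set.range (Z.subschemeι ≫ g i)))ᶜ, isClosed_closure.isOpen_compl⟩ ⊓
    ⟨(⋃ j : {j // j ≠ i}, closure (Set.range (g j.1)))ᶜ,
      (isClosed_iUnion_of_finite fun _ => isClosed_closure).isOpen_compl⟩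
  refine ⟨i, V'', ⟨⟨η, ⟨ha ▸ hηV', hZ⟩, hoth⟩⟩, ?_, fun j hj => ?_⟩
  · have hsub : g i ⁻¹ᵁ V'' ≤ U₁ ⊓ g i ⁻¹ᵁ V' := fun z hz => by
      refine ⟨by_contra fun hzU => ?_, hz.1.1⟩
      refine hz.1.2 (subset_closure ?_)
      have : z ∈ Set.range Z.subschemeι := by
        rw [Scheme.IdealSheafData.range_subschemeι, Scheme.IdealSheafData.coe_support_vanishingIdeal]
        exact hzU
      obtain ⟨z', rfl⟩ := this
      exact ⟨z', rfl⟩
    haveI := hiso
    let O : (A i).Opens := U₁ ⊓ g i ⁻¹ᵁ V'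
    have hO : (g i).resLE V' O inf_le_right ≫ V'.ι = O.ι ≫ g i := Scheme.Hom.resLE_comp_ι _ _
    haveI : IsOpenImmersion (O.ι ≫ g i) := hO ▸ inferInstance
    haveI : IsOpenImmersion ((g i ⁻¹ᵁ V'').ι ≫ g i) := by
      rw [← Scheme.homOfLE_ι _ hsub, Category.assoc]
      infer_instance
    have hrange : Set.range ((g i ⁻¹ᵁ V'').ι ≫ g i) = Set.range V''.ι := by
      rw [Scheme.Opens.range_ι]
      ext y
      refine ⟨?_, fun hy => ?_⟩
      · rintro ⟨z, rfl⟩
        exact z.2
      · obtain ⟨z, hz⟩ := (Scheme.homeoOfIso (asIso ((g i).resLE V' O inf_le_right))).surjective ⟨y, hy.1.1⟩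
        have hzy : g i z.1 = y := by
          have := congr($hO z)
          simp only [Scheme.Hom.comp_apply] at this
          exact this.symm.trans (congrArg V'.ι hz)
        exact ⟨⟨z.1, show g i z.1 ∈ V'' by rw [hzy]; exact hy⟩, hzy⟩
    have hiso' : g i ∣_ V'' = (IsOpenImmersion.isoOfRangeEq _ _ hrange).hom := by
      rw [← cancel_mono V''.ι, IsOpenImmersion.isoOfRangeEq_hom_fac]
      exact morphismRestrict_ι _ _
    rw [hiso']
    infer_instance
  · refine TopologicalSpace.Opens.ext (Set.eq_empty_iff_forall_notMem.2 fun z hz => ?_)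
    exact hz.2 (Set.mem_iUnion.2 ⟨⟨j, hj⟩, subset_closure (Set.mem_range_self z)⟩)

end Groth.Agent.H27K0Var

namespace Groth.Agent.H27K0Var

variable {S : Scheme.{u}}

theorem cl_eq_sum_of_ptBij [IsNoetherian S] {B : Scheme.{u}} (f : B ⟶ S) [LocallyOfFiniteType f] [QuasiCompact f]
    {ι : Type*} [Fintype ι] {A : ι → Scheme.{u}} (g : ∀ i, A i ⟶ B) [∀ i, LocallyOfFiniteType (g i)]
    [∀ i, QuasiCompact (g i)] (hg : PtBij g) : K0Var.cl f = ∑ i, K0Var.cl (g i ≫ f) := by
  classical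
  haveI : IsLocallyNoetherian B := LocallyOfFiniteType.isLocallyNoetherian f
  haveI : CompactSpace B := QuasiCompact.compactSpace_of_compactSpace f
  haveI : IsNoetherian B := {}
  suffices H : ∀ (C : Closeds B) (W : Scheme.{u}) (w : W ⟶ B) [IsClosedImmersion w], Set.range w = C →
      ∀ (A' : ι → Scheme.{u}) (q : ∀ i, A' i ⟶ W) [∀ i, LocallyOfFiniteType (q i)] [∀ i, QuasiCompact (q i)],
        PtBij q → K0Var.cl (w ≫ f) = ∑ i, K0Var.cl (q i ≫ w ≫ f) by
    have h := H ⊤ B (𝟙 B) (by simp) A g hg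
    simpa only [Category.id_comp] using h
  intro C
  induction C using WellFoundedLT.induction with
  | ind C ih =>
  intro W₀ w₀ _ hw₀ A₀ q₀ _ _ hq₀
  -- reduce the base and the pieces
  let red := (Scheme.IdealSheafData.vanishingIdeal (⊤ : Closeds W₀)).subschemeι
  have hred : Function.Surjective red := Set.range_eq_univ.1 (by
    rw [Scheme.IdealSheafData.range_subschemeι, Scheme.IdealSheafData.coe_support_vanishingIdeal]; rfl)
  haveI : IsReduced (Scheme.IdealSheafData.vanishingIdeal (⊤ : Closeds W₀)).subscheme :=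
    H17.isReduced_vanishingIdeal_subscheme _
  let W := (Scheme.IdealSheafData.vanishingIdeal (⊤ : Closeds W₀)).subscheme
  let w : W ⟶ B := red ≫ w₀
  have hw : Set.range w = C := by
    rw [← hw₀]
    show Set.range (w₀ ∘ red) = _
    rw [hred.range_comp]
  let p := fun i => pullback.snd (q₀ i) red
  let Ar := fun i => (Scheme.IdealSheafData.vanishingIdeal (⊤ : Closeds ↥(pullback (q₀ i) red))).subscheme
  let r : ∀ i, Ar i ⟶ pullback (q₀ i) red := fun i => Scheme.IdealSheafData.subschemeι _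
  have hr : ∀ i, Function.Surjective (r i) := fun i => Set.range_eq_univ.1 (by
    rw [Scheme.IdealSheafData.range_subschemeι, Scheme.IdealSheafData.coe_support_vanishingIdeal]; rfl)
  haveI : ∀ i, IsReduced (Ar i) := fun i => H17.isReduced_vanishingIdeal_subscheme _
  let q : ∀ i, Ar i ⟶ W := fun i => r i ≫ p i
  have hq : PtBij q := (hq₀.baseChange red).reduced r hr
  have e1 : K0Var.cl (w₀ ≫ f) = K0Var.cl (w ≫ f) := by
    rw [← cl_of_surjective (w₀ ≫ f) red hred]
    simp only [w, Category.assoc]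
  have e2 : ∀ i, K0Var.cl (q₀ i ≫ w₀ ≫ f) = K0Var.cl (q i ≫ w ≫ f) := fun i => by
    rw [← cl_of_surjective (q₀ i ≫ w₀ ≫ f) (r i ≫ pullback.fst (q₀ i) red) (by
      rw [Scheme.Hom.comp_base, TopCat.coe_comp]
      refine Function.Surjective.comp (fun y => ?_) (hr i)
      obtain ⟨x, hx⟩ := hred (q₀ i y)
      obtain ⟨z, hz, -⟩ := Scheme.Pullback.exists_preimage_pullback y x hx.symm
      exact ⟨z, hz⟩)]
    simp only [q, p, w, Category.assoc, pullback.condition_assoc]
  rw [e1, Finset.sum_congr rfl fun i _ => e2 i]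
  clear e1 e2
  haveI : IsLocallyNoetherian W := LocallyOfFiniteType.isLocallyNoetherian (w ≫ f)
  haveI : CompactSpace W := QuasiCompact.compactSpace_of_compactSpace (w ≫ f)
  haveI : IsNoetherian W := {}
  rcases isEmpty_or_nonempty W with hW | hW
  · have hA : ∀ i, IsEmpty (Ar i) := fun i => ⟨fun a => hW.false (q i a)⟩
    rw [show K0Var.cl (w ≫ f) = 0 from K0Var.Gen.cl_eq_zero_of_isEmpty (K0Var.Gen.mk W (w ≫ f))]
    refine (Finset.sum_eq_zero fun i _ => ?_).symm
    haveI := hA i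
    exact K0Var.Gen.cl_eq_zero_of_isEmpty (K0Var.Gen.mk (Ar i) (q i ≫ w ≫ f))
  obtain ⟨i₀, V, hV, hiso, hoth⟩ := exists_open_iso hq
  let Z := Scheme.IdealSheafData.vanishingIdeal (⟨(V : Set W)ᶜ, V.2.isClosed_compl⟩ : Closeds W)
  have hrZ : Set.range Z.subschemeι = (V : Set W)ᶜ := by
    rw [Scheme.IdealSheafData.range_subschemeι, Scheme.IdealSheafData.coe_support_vanishingIdeal]; rfl
  let C' : Closeds B := ⟨Set.range (Z.subschemeι ≫ w), (Z.subschemeι ≫ w).isClosedEmbedding.isClosed_range⟩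
  have hC' : C' < C := by
    refine lt_of_le_not_ge (fun y hy => ?_) fun hle => ?_
    · obtain ⟨z, rfl⟩ := hy
      rw [← SetLike.mem_coe, ← hw]
      exact ⟨Z.subschemeι z, rfl⟩
    · obtain ⟨⟨v, hv⟩⟩ := hV
      obtain ⟨z, hz⟩ := hle (show w v ∈ C by rw [← SetLike.mem_coe, ← hw]; exact ⟨v, rfl⟩)
      have : Z.subschemeι z = v := w.isClosedEmbedding.injective (by simpa only [Scheme.Hom.comp_apply] using hz)
      exact (hrZ.subset ⟨z, this⟩) hv
  haveI : ∀ i, QuasiCompact (q i ⁻¹ᵁ V).ι := fun i =>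
    MorphismProperty.of_isPullback (P := @QuasiCompact) (isPullback_morphismRestrict (q i) V) inferInstance
  have key : ∀ i, K0Var.cl (q i ≫ w ≫ f) = K0Var.cl (pullback.snd (q i) Z.subschemeι ≫ (Z.subschemeι ≫ w) ≫ f) +
      K0Var.cl ((q i ⁻¹ᵁ V).ι ≫ q i ≫ w ≫ f) := fun i => by
    rw [K0Var.cl_scissor (q i ≫ w ≫ f) (pullback.fst (q i) Z.subschemeι) (q i ⁻¹ᵁ V).ι (by
      rw [Scheme.Pullback.range_fst, hrZ, Scheme.Opens.range_ι, Set.preimage_compl]; rfl)]
    simp only [Category.assoc, pullback.condition_assoc]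
  rw [Finset.sum_congr rfl fun i _ => key i, Finset.sum_add_distrib,
    K0Var.cl_scissor (w ≫ f) Z.subschemeι V.ι (by rw [hrZ, Scheme.Opens.range_ι])]
  congr 1
  · have := ih C' hC' Z.subscheme (Z.subschemeι ≫ w) rfl _ (fun i => pullback.snd (q i) Z.subschemeι)
      (hq.baseChange _)
    simpa only [Category.assoc] using this
  · rw [Finset.sum_eq_single i₀]
    · refine (K0Var.cl_congr _ _ (asIso (q i₀ ∣_ V)) ?_).symm
      show (q i₀ ∣_ V) ≫ V.ι ≫ w ≫ f = _
      rw [morphismRestrict_ι_assoc]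
    · intro j _ hj
      haveI : IsEmpty (K0Var.Gen.mk (q j ⁻¹ᵁ V).toScheme ((q j ⁻¹ᵁ V).ι ≫ q j ≫ w ≫ f)).X := by
        show IsEmpty (q j ⁻¹ᵁ V)
        rw [hoth j hj]
        exact ⟨fun x => x.2⟩
      exact K0Var.Gen.cl_eq_zero_of_isEmpty _
    · simp

end Groth.Agent.H27K0Var
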