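/-
Zariski locally trivial fibrations in the Grothendieck ring of varieties.
-/
import Groth.Prelude.Def_K0Var
import Mathlib

set_option autoImplicit false
set_option linter.style.haveILetI false

universe u

open CategoryTheory CategoryTheory.Limits AlgebraicGeometry TopologicalSpace

namespace Groth.Agent.H27K0Var

variable {k : Type u} [Field k] {X Y F : Scheme.{u}} (pY : Y ⟶ Spec (CommRingCat.of k))
  (pF : F ⟶ Spec (CommRingCat.of k)) (f : X ⟶ Y)

/-- Over a map factoring through a trivialising open, the family is a product. -/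
theorem cl_pullback_of_le [LocallyOfFiniteType pY] [QuasiCompact pY] [LocallyOfFiniteType pF]
    [QuasiCompact pF] [LocallyOfFiniteType f] [QuasiCompact f] (U : Y.Opens)
    (e : (f ⁻¹ᵁ U).toScheme ≅ pullback (U.ι ≫ pY) pF)
    (he : e.hom ≫ pullback.fst (U.ι ≫ pY) pF = f ∣_ U)
    {V : Scheme.{u}} (h : V ⟶ Y) [LocallyOfFiniteType h] [QuasiCompact h] (h₀ : V ⟶ U.toScheme)
    (hh : h₀ ≫ U.ι = h) :
    K0Var.cl (pullback.snd f h ≫ h ≫ pY) = K0Var.cl (h ≫ pY) * K0Var.cl pF := by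
  rw [← K0Var.cl_mul]
  have h1 : IsPullback (e.inv ≫ (f ⁻¹ᵁ U).ι) (pullback.fst (U.ι ≫ pY) pF) f U.ι := by
    refine (isPullback_morphismRestrict f U).flip.of_iso e (Iso.refl _) (Iso.refl _) (Iso.refl _)
      ?_ ?_ ?_ ?_
    · simp
    · simp [he]
    · simp
    · simp
  let l : pullback (h ≫ pY) pF ⟶ pullback (U.ι ≫ pY) pF :=
    pullback.map (h ≫ pY) pF (U.ι ≫ pY) pF h₀ (𝟙 _) (𝟙 _) (by simp [← hh]) (by simp)
  have h2 : IsPullback l (pullback.fst (h ≫ pY) pF) (pullback.fst (U.ι ≫ pY) pF) h₀ := by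
    refine IsPullback.of_right ?_ ?_ (IsPullback.of_hasPullback (U.ι ≫ pY) pF).flip
    · convert (IsPullback.of_hasPullback (h ≫ pY) pF).flip using 1
      · exact (pullback.lift_snd _ _ _).trans (Category.comp_id _)
      · simp [← hh]
    · exact pullback.lift_fst _ _ _
  have h3 := h2.paste_horiz h1
  rw [hh] at h3
  refine K0Var.cl_congr _ _ h3.isoPullback.symm ?_
  simp only [Iso.symm_hom]
  rw [← Category.assoc, h3.isoPullback_inv_snd]

/-- Multiplicativity over a finite trivialising cover. -/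
theorem cl_pullback [LocallyOfFiniteType pY] [QuasiCompact pY] [LocallyOfFiniteType pF]
    [QuasiCompact pF] [LocallyOfFiniteType f] [QuasiCompact f] : ∀ (n : ℕ) (U : Fin n → Y.Opens),
    (∀ i, ∃ e : (f ⁻¹ᵁ U i).toScheme ≅ pullback ((U i).ι ≫ pY) pF,
      e.hom ≫ pullback.fst ((U i).ι ≫ pY) pF = f ∣_ U i) →
    ∀ {Y' : Scheme.{u}} (j : Y' ⟶ Y) [LocallyOfFiniteType j] [QuasiCompact j],
      (∀ y, ∃ i, j y ∈ U i) →
      K0Var.cl (pullback.snd f j ≫ j ≫ pY) = K0Var.cl (j ≫ pY) * K0Var.cl pF := by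
  intro n
  induction n with
  | zero =>
    intro U _ Y' j _ _ hcov
    haveI : IsEmpty Y' := ⟨fun y => (hcov y).choose.elim0⟩
    haveI : IsEmpty (pullback f j : Scheme.{u}) := ⟨fun y => IsEmpty.false (pullback.snd f j y)⟩
    rw [K0Var.cl_eq_gen_cl, K0Var.cl_eq_gen_cl (j ≫ pY)]
    haveI : IsEmpty (K0Var.Gen.mk (pullback f j) (pullback.snd f j ≫ j ≫ pY)).X :=
      inferInstanceAs (IsEmpty (pullback f j : Scheme.{u}))
    haveI : IsEmpty (K0Var.Gen.mk Y' (j ≫ pY)).X := inferInstanceAs (IsEmpty Y')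
    rw [K0Var.Gen.cl_eq_zero_of_isEmpty, K0Var.Gen.cl_eq_zero_of_isEmpty, zero_mul]
  | succ n ih =>
    intro U htriv Y' j _ _ hcov
    haveI : IsLocallyNoetherian Y' :=
      LocallyOfFiniteType.isLocallyNoetherian (j ≫ pY)
    haveI : CompactSpace Y' := QuasiCompact.compactSpace_of_compactSpace (j ≫ pY)
    haveI : IsNoetherian Y' := {}
    let V : Y'.Opens := j ⁻¹ᵁ U 0
    let Z : Y'.IdealSheafData :=
      Scheme.IdealSheafData.vanishingIdeal ⟨(V : Set Y')ᶜ, V.isOpen.isClosed_compl⟩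
    have hr : Set.range Z.subschemeι = (Set.range V.ι)ᶜ := by
      rw [Scheme.IdealSheafData.range_subschemeι, Scheme.IdealSheafData.coe_support_vanishingIdeal,
        Scheme.Opens.range_ι]
      rfl
    have hA := K0Var.cl_scissor (j ≫ pY) Z.subschemeι V.ι hr
    let p := pullback.snd f j
    have hr' : Set.range (pullback.fst p Z.subschemeι) = (Set.range (pullback.fst p V.ι))ᶜ := by
      rw [Scheme.Pullback.range_fst, Scheme.Pullback.range_fst, hr, Set.preimage_compl]
    have hB := K0Var.cl_scissor (p ≫ j ≫ pY) (pullback.fst p Z.subschemeι)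
      (pullback.fst p V.ι) hr'
    have key : ∀ {W : Scheme.{u}} (i : W ⟶ Y') [LocallyOfFiniteType i] [QuasiCompact i],
        K0Var.cl (pullback.fst p i ≫ p ≫ j ≫ pY) =
          K0Var.cl (pullback.snd f (i ≫ j) ≫ (i ≫ j) ≫ pY) := by
      intro W i _ _
      refine K0Var.cl_congr _ _ (pullbackLeftPullbackSndIso f j i) ?_
      rw [← Category.assoc, pullbackLeftPullbackSndIso_hom_snd, Category.assoc,
        pullback.condition_assoc]
    obtain ⟨e, he⟩ := htriv 0
    have hopen : K0Var.cl (pullback.fst p V.ι ≫ p ≫ j ≫ pY) =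
        K0Var.cl (V.ι ≫ j ≫ pY) * K0Var.cl pF := by
      rw [key, cl_pullback_of_le pY pF f (U 0) e he (V.ι ≫ j) (j ∣_ U 0) (morphismRestrict_ι j (U 0))]
      simp only [Category.assoc]
    have hclosed : K0Var.cl (pullback.fst p Z.subschemeι ≫ p ≫ j ≫ pY) =
        K0Var.cl (Z.subschemeι ≫ j ≫ pY) * K0Var.cl pF := by
      rw [key, ih (fun i => U i.succ) (fun i => htriv i.succ) (Z.subschemeι ≫ j) fun z => ?_]
      · simp only [Category.assoc]
      · obtain ⟨i, hi⟩ := hcov (Z.subschemeι z)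
        have hz : Z.subschemeι z ∉ V := by
          have h1 : Z.subschemeι z ∈ (Set.range V.ι)ᶜ := hr ▸ Set.mem_range_self z
          rwa [Scheme.Opens.range_ι] at h1
        rcases Fin.eq_zero_or_eq_succ i with rfl | ⟨i', rfl⟩
        · exact absurd hi hz
        · exact ⟨i', hi⟩
    rw [hB, hA, add_mul, hopen, hclosed]

/-- A Zariski locally trivial fibration has the class of the product. -/
theorem cl_fibration [LocallyOfFiniteType pY] [QuasiCompact pY] [LocallyOfFiniteType pF]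
    [QuasiCompact pF] [LocallyOfFiniteType f] [QuasiCompact f]
    (hf : ∀ y : Y, ∃ (U : Y.Opens) (e : (f ⁻¹ᵁ U).toScheme ≅ pullback (U.ι ≫ pY) pF),
      y ∈ U ∧ e.hom ≫ pullback.fst (U.ι ≫ pY) pF = f ∣_ U) :
    K0Var.cl (f ≫ pY) = K0Var.cl pY * K0Var.cl pF := by
  classical
  choose U e hy he using hf
  haveI : CompactSpace Y := QuasiCompact.compactSpace_of_compactSpace pY
  obtain ⟨t, ht⟩ := isCompact_univ.elim_finite_subcover (fun y : Y => (U y : Set Y))
    (fun y => (U y).isOpen) fun y _ => Set.mem_iUnion.mpr ⟨y, hy y⟩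
  have h := cl_pullback pY pF f t.card (fun i => U (t.equivFin.symm i))
    (fun i => ⟨e _, he _⟩) (𝟙 Y) fun y => by
      obtain ⟨z, hz, hyz⟩ := Set.mem_iUnion₂.mp (ht (Set.mem_univ y))
      refine ⟨t.equivFin ⟨z, hz⟩, ?_⟩
      simpa using hyz
  simp only [Category.id_comp] at h
  rw [← h]
  refine K0Var.cl_congr _ _ (asIso (pullback.fst f (𝟙 Y))).symm ?_
  rw [Iso.symm_hom, asIso_inv, ← Category.comp_id (pullback.snd f (𝟙 Y)), ← pullback.condition,
    Category.assoc, IsIso.inv_hom_id_assoc]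

end Groth.Agent.H27K0Var
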