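import Groth.Prelude.Def_K0Var
import Mathlib

/-!
# Classes in the Grothendieck ring: finite open partitions
-/

set_option autoImplicit false
set_option linter.style.haveILetI false
set_option backward.isDefEq.respectTransparency false

universe u

open CategoryTheory CategoryTheory.Limits AlgebraicGeometry

namespace Groth.Agent.H27K0Var

variable {S : Scheme.{u}} {ι : Type*}

theorem isClosedImmersion_of_partition {X : Scheme.{u}} (s : Finset ι) (O : ι → X.Opens)
    (hc : ∀ x, ∃ c ∈ s, x ∈ O c) (hd : ∀ x c c', x ∈ O c → x ∈ O c' → c = c') (c : ι) :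
    IsClosedImmersion (O c).ι := by
  refine IsClosedImmersion.of_isPreimmersion _ ?_
  rw [Scheme.Opens.range_ι, ← isOpen_compl_iff]
  have : (O c : Set X)ᶜ = ⋃ c' : {c' : ι // c' ≠ c}, (O c'.1 : Set X) := by
    ext x
    simp only [Set.mem_compl_iff, Set.mem_iUnion, SetLike.mem_coe]
    refine ⟨fun hx => ?_, fun ⟨c', hx⟩ hx' => c'.2 (hd x _ _ hx hx')⟩
    obtain ⟨c', -, hc'⟩ := hc x
    exact ⟨⟨c', fun e => hx (e ▸ hc')⟩, hc'⟩
  rw [this]
  exact isOpen_iUnion fun c' => (O c'.1).2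

/-- The class of a scheme is the sum of the classes of the members of a finite open partition. -/
theorem cl_eq_sum_partition (s : Finset ι) : ∀ {X : Scheme.{u}} (h : X ⟶ S) [LocallyOfFiniteType h] [QuasiCompact h]
    (O : ι → X.Opens) (_ : ∀ x, ∃ c ∈ s, x ∈ O c) (_ : ∀ x c c', x ∈ O c → x ∈ O c' → c = c')
    [∀ c, QuasiCompact ((O c).ι ≫ h)], K0Var.cl h = ∑ c ∈ s, K0Var.cl ((O c).ι ≫ h) := by
  classical
  induction s using Finset.induction with
  | empty =>
    intro X h _ _ O hc _ _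
    haveI : IsEmpty X := ⟨fun x => by simpa using hc x⟩
    rw [Finset.sum_empty]
    exact K0Var.Gen.cl_eq_zero_of_isEmpty (K0Var.Gen.mk X h)
  | insert a s ha ih =>
    intro X h _ _ O hc hd _
    haveI := isClosedImmersion_of_partition _ O hc hd a
    let W : X.Opens := ⟨(O a : Set X)ᶜ, by
      rw [← Scheme.Opens.range_ι]
      exact (O a).ι.isClosedEmbedding.isClosed_range.isOpen_compl⟩
    haveI : IsClosedImmersion W.ι := IsClosedImmersion.of_isPreimmersion _ (by
      rw [Scheme.Opens.range_ι, ← isOpen_compl_iff]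
      show IsOpen (O a : Set X)ᶜᶜ
      rw [compl_compl]
      exact (O a).2)
    rw [Finset.sum_insert ha, K0Var.cl_scissor h (O a).ι W.ι (by
      rw [Scheme.Opens.range_ι, Scheme.Opens.range_ι]
      exact (compl_compl _).symm)]
    congr 1
    let O' : ι → W.toScheme.Opens := fun c => W.ι ⁻¹ᵁ O c
    have hc' : ∀ x, ∃ c ∈ s, x ∈ O' c := fun x => by
      obtain ⟨c, hcs, hx⟩ := hc (W.ι x)
      exact ⟨c, (Finset.mem_insert.1 hcs).resolve_left fun e => x.2 (e ▸ hx), hx⟩
    have hd' : ∀ x c c', x ∈ O' c → x ∈ O' c' → c = c' := fun x c c' => hd (W.ι x) c c'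
    haveI : ∀ c, IsClosedImmersion (O' c).ι := isClosedImmersion_of_partition _ O' hc' hd'
    rw [ih (W.ι ≫ h) O' hc' hd']
    refine Finset.sum_congr rfl fun c hcs => ?_
    have hle : O c ≤ W := fun x hx hxa => ha ((hd x _ _ hxa hx) ▸ hcs)
    refine K0Var.cl_congr _ _ (IsOpenImmersion.isoOfRangeEq ((O' c).ι ≫ W.ι) (O c).ι ?_) ?_
    · ext x
      rw [Scheme.Opens.range_ι]
      refine ⟨?_, fun hx => ⟨⟨⟨x, hle hx⟩, hx⟩, rfl⟩⟩
      rintro ⟨y, rfl⟩
      exact y.2
    · rw [← Category.assoc, IsOpenImmersion.isoOfRangeEq_hom_fac, Category.assoc]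

end Groth.Agent.H27K0Var
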